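import Groth.Prelude.Def_QCohCat
import Groth.Agent.QCohLib.Gen
import Mathlib.Algebra.Category.ModuleCat.Basic

/-!
# An equivalence `QCoh(X) ≅ Mod R`: action of `R`, the test objects at points
-/

set_option autoImplicit false
universe u
open CategoryTheory CategoryTheory.Limits TopologicalSpace Opposite AlgebraicGeometry

noncomputable section

namespace QCohEquivLib

variable {X : Scheme.{u}} {R : Type u} [CommRing R] (e : QCohCat.QCoh X ≌ ModuleCat.{u} R)

local notation "Q" => QCohCat.QCoh X

/-- The scalar `r` as an endomorphism of every object. -/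
def zz (r : R) (M : Q) : M ⟶ M :=
  e.fullyFaithfulFunctor.preimage (r • 𝟙 (e.functor.obj M))

theorem map_zz (r : R) (M : Q) : e.functor.map (zz e r M) = r • 𝟙 (e.functor.obj M) :=
  e.fullyFaithfulFunctor.map_preimage _

theorem zz_naturality (r : R) {M N : Q} (f : M ⟶ N) : zz e r M ≫ f = f ≫ zz e r N := by
  apply e.functor.map_injective
  rw [Functor.map_comp, Functor.map_comp, map_zz, map_zz]
  simp

theorem zz_one (M : Q) : zz e 1 M = 𝟙 M := by
  apply e.functor.map_injective
  rw [map_zz]
  simp

theorem zz_mul (r s : R) (M : Q) : zz e (r * s) M = zz e s M ≫ zz e r M := by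
  apply e.functor.map_injective
  rw [Functor.map_comp, map_zz, map_zz, map_zz]
  simp [mul_smul]

theorem additive_functor : e.functor.Additive := by
  have := preservesBinaryBiproducts_of_preservesBinaryProducts e.symm.functor
  have : e.symm.functor.Additive := Functor.additive_of_preservesBinaryBiproducts _
  exact inferInstanceAs e.symm.inverse.Additive

theorem zz_add (r s : R) (M : Q) : zz e (r + s) M = zz e r M + zz e s M := by
  have := additive_functor e
  apply e.functor.map_injective
  rw [Functor.map_add, map_zz, map_zz, map_zz, add_smul]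

/-- The structure sheaf as an object of `QCoh X`. -/
def oX : Q := ⟨Coh.structureModule X, QCohLib.isQCoh_unit⟩

/-- The value of `r` on the unit section. -/
def phiFun (r : R) : Γ(X, ⊤) := (zz e r oX).hom.app ⊤ (1 : Γ(X, ⊤))

theorem zz_top (r : R) (M : Q) (t : Γ(M.obj, ⊤)) :
    (zz e r M).hom.app ⊤ t = phiFun e r • t := by
  have h : zz e r oX ≫ ObjectProperty.homMk (QCohLib.unitHom M.obj t) =
      ObjectProperty.homMk (QCohLib.unitHom M.obj t) ≫ zz e r M := zz_naturality e r _
  have h' : (zz e r oX).hom ≫ QCohLib.unitHom M.obj t =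
      QCohLib.unitHom M.obj t ≫ (zz e r M).hom := congr($(h).hom)
  rw [QCohLib.app_unitHom_app] at h'
  have h1 := congr($(h').app ⊤ (1 : Γ(X, ⊤)))
  rw [QCohLib.unitHom_app] at h1
  change (QCohLib.unitHom M.obj t).app ⊤ (phiFun e r) = _ at h1
  rw [QCohLib.unitHom_app, one_smul] at h1
  simpa using h1.symm

/-- The ring map `R → Γ(X, O_X)`. -/
def phi : R →+* Γ(X, ⊤) where
  toFun := phiFun e
  map_one' := by
    rw [phiFun, zz_one]
    rfl
  map_mul' r s := by
    rw [show phiFun e (r * s) = (zz e r oX).hom.app ⊤ (phiFun e s) by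
      rw [phiFun, zz_mul]; rfl]
    exact zz_top e r oX _
  map_zero' := by
    have h : zz e 0 (oX (X := X)) = zz e 0 oX + zz e 0 oX := by rw [← zz_add, add_zero]
    rw [phiFun, left_eq_add.mp h]
    rfl
  map_add' r s := by
    rw [phiFun, zz_add]
    rfl

theorem phi_apply (r : R) : phi e r = phiFun e r := rfl

/-- `phi r` restricted to an open. -/
abbrev phiW (r : R) (W : X.Opens) : Γ(X, W) :=
  X.presheaf.map (homOfLE (le_top : W ≤ ⊤)).op (phi e r)

section
variable (p : Ideal R)

/-- The points of `X` over the generalizations of `p`. -/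
def T : Set X := {y | ∀ r, r ∉ p → y ∈ X.basicOpen (phi e r)}

/-- The objects on which the complement of `p` acts bijectively. -/
def IsS (M : Q) : Prop := ∀ r, r ∉ p → IsIso (zz e r M)

/-- The objects, all nonzero maps to which from local objects are surjective. -/
def IsTop (M : Q) : Prop := ∀ (N : Q) (ψ : N ⟶ M), IsS e p N → ψ ≠ 0 → Epi ψ

/-- Maximal points of `T`. -/
def IsMaxT (x : X) : Prop := x ∈ T e p ∧ ∀ z ∈ T e p, x ⤳ z → z = x

end

theorem T_generize (p : Ideal R) {y z : X} (hy : y ∈ T e p) (h : z ⤳ y) : z ∈ T e p :=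
  fun r hr => h.mem_open (X.basicOpen (phi e r)).isOpen (hy r hr)

end QCohEquivLib

end
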