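import Mathlib.Algebra.Category.ModuleCat.Abelian
import Mathlib.Algebra.Category.ModuleCat.EpiMono
import Mathlib.Algebra.Module.LocalizedModule.Basic
import Mathlib.RingTheory.Ideal.Quotient.Operations

/-!
# Modules on which the complement of a prime acts bijectively
-/

set_option autoImplicit false
universe u
open CategoryTheory

noncomputable section

namespace QCohEquivLib

variable {R : Type u} [CommRing R] (p : Ideal R)

/-- The elements outside `p` act bijectively. -/
def SBij (V : ModuleCat.{u} R) : Prop :=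
  ∀ r, r ∉ p → Function.Bijective fun v : V => r • v

/-- Every nonzero map from a local module is onto. -/
def TopMod (V : ModuleCat.{u} R) : Prop :=
  ∀ (N : ModuleCat.{u} R) (h : N ⟶ V), SBij p N → h ≠ 0 → Function.Surjective h

theorem smul_eq_zero_of_mem {V : ModuleCat.{u} R} (hp : p.IsPrime) (hS : SBij p V)
    (ht : TopMod p V) {a : R} (ha : a ∈ p) (v : V) : a • v = 0 := by
  classical
  have dich : ∀ b : R, (∀ w : V, b • w = 0) ∨ Function.Bijective fun w : V => b • w := by
    intro b
    let μ : V ⟶ V := ModuleCat.ofHom (LinearMap.lsmul R V b)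
    by_cases hμ : μ = 0
    · exact Or.inl fun w => congr($(hμ) w)
    have hsurj : Function.Surjective μ := ht V μ hS hμ
    refine Or.inr ⟨?_, hsurj⟩
    let K : Submodule R V := LinearMap.ker μ.hom
    have hK : SBij p (ModuleCat.of R K) := fun r hr => by
      refine ⟨fun w w' h => Subtype.ext ((hS r hr).1 congr(($h).1)), fun w => ?_⟩
      obtain ⟨u, hu⟩ := (hS r hr).2 w.1
      refine ⟨⟨u, (hS r hr).1 ?_⟩, Subtype.ext hu⟩
      change r • (b • u) = r • (0 : V)
      rw [smul_comm, show r • u = w.1 from hu, smul_zero]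
      exact w.2
    intro w w' h
    by_contra hne
    have hmem : w - w' ∈ K := by
      change b • (w - w') = 0
      rw [smul_sub]; exact sub_eq_zero.mpr h
    let j : ModuleCat.of R K ⟶ V := ModuleCat.ofHom K.subtype
    have hj : j ≠ 0 := fun h0 => hne (sub_eq_zero.mp congr($(h0) (⟨w - w', hmem⟩ : K)))
    apply hμ
    ext y
    obtain ⟨⟨k, hk⟩, rfl⟩ := ht _ j hK hj y
    exact hk
  rcases dich a with h | ha'
  · exact h v
  by_contra hav
  let N : Submodule R V :=
    { carrier := {w | ∃ s, s ∉ p ∧ ∃ c : R, s • w = c • v}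
      zero_mem' := ⟨1, hp.one_notMem, 0, by simp⟩
      add_mem' := by
        rintro w w' ⟨s, hs, c, hc⟩ ⟨s', hs', c', hc'⟩
        refine ⟨s * s', fun h => (hp.mem_or_mem h).elim hs hs', s' * c + s * c', ?_⟩
        rw [smul_add, add_smul, mul_smul, mul_smul, mul_smul, mul_smul, hc', ← hc,
          smul_comm s s' w]
      smul_mem' := by
        rintro b w ⟨s, hs, c, hc⟩
        exact ⟨s, hs, b * c, by rw [smul_comm, hc, mul_smul]⟩ }
  have hN : SBij p (ModuleCat.of R N) := fun r hr => by
    refine ⟨fun w w' h => Subtype.ext ((hS r hr).1 congr(($h).1)), fun w => ?_⟩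
    obtain ⟨u, hu⟩ := (hS r hr).2 w.1
    obtain ⟨s, hs, c, hc⟩ := w.2
    exact ⟨⟨u, s * r, fun h => (hp.mem_or_mem h).elim hs hr, c,
      by rw [mul_smul, show r • u = w.1 from hu, hc]⟩, Subtype.ext hu⟩
  let j : ModuleCat.of R N ⟶ V := ModuleCat.ofHom N.subtype
  have hv : v ∈ N := ⟨1, hp.one_notMem, 1, rfl⟩
  have hj : j ≠ 0 := fun h0 => hav (by
    rw [show v = 0 from congr($(h0) (⟨v, hv⟩ : N)), smul_zero])
  obtain ⟨u, hu : a • u = v⟩ := ha'.2 v
  obtain ⟨⟨w, s, hs, c, hc⟩, rfl⟩ := ht _ j hN hj u
  change a • w = v at hu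
  change s • w = c • v at hc
  have hsac : (s - c * a) • w = 0 := by rw [sub_smul, mul_smul, hu, hc, sub_self]
  rcases dich (s - c * a) with h | h
  · have hm : s - c * a ∉ p := fun hm => hs (by
      simpa using p.add_mem hm (p.mul_mem_left c ha))
    apply hav
    rw [← hu, (hS _ hm).1 (show (s - c * a) • w = (s - c * a) • (0 : V) by
      rw [h w, smul_zero]), smul_zero, smul_zero]
  · apply hav
    rw [← hu, h.1 (show (s - c * a) • w = (s - c * a) • (0 : V) by
      rw [hsac, smul_zero]), smul_zero, smul_zero]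

/-- Two such modules which are nonzero are isomorphic. -/
theorem nonempty_iso {V V' : ModuleCat.{u} R} [hp : p.IsPrime] (hS : SBij p V) (ht : TopMod p V)
    (hS' : SBij p V') (ht' : TopMod p V') (hV : ∃ v : V, v ≠ 0) (hV' : ∃ v : V', v ≠ 0) :
    Nonempty (V ≅ V') := by
  suffices h : ∀ W : ModuleCat.{u} R, SBij p W → TopMod p W → (∃ v : W, v ≠ 0) →
      Nonempty (ModuleCat.of R (LocalizedModule p.primeCompl (R ⧸ p)) ≅ W) from
    ⟨(h V hS ht hV).some.symm ≪≫ (h V' hS' ht' hV').some⟩
  rintro W hSW htW ⟨v, hv⟩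
  have hu : ∀ x : p.primeCompl, IsUnit (algebraMap R (Module.End R W) x) := fun x =>
    (Module.End.isUnit_iff _).mpr (hSW x.1 x.2)
  let g : (R ⧸ p) →ₗ[R] W := Submodule.liftQ p (LinearMap.toSpanSingleton R W v)
    fun a ha => smul_eq_zero_of_mem p hp hSW htW ha v
  let f : ModuleCat.of R (LocalizedModule p.primeCompl (R ⧸ p)) ⟶ W :=
    ModuleCat.ofHom (LocalizedModule.lift p.primeCompl g hu)
  have hf : ∀ a : R ⧸ p, f (LocalizedModule.mk a 1) = g a := fun a =>
    congr($(LocalizedModule.lift_comp p.primeCompl g hu) a)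
  have hMS : SBij p (ModuleCat.of R (LocalizedModule p.primeCompl (R ⧸ p))) := fun r hr =>
    (Module.End.isUnit_iff _).mp (IsLocalizedModule.map_units
      (LocalizedModule.mkLinearMap p.primeCompl (R ⧸ p)) (⟨r, hr⟩ : p.primeCompl))
  have hf0 : f ≠ 0 := fun h0 => hv (by
    have := hf (Submodule.Quotient.mk 1)
    rw [h0] at this
    have h1 : g (Submodule.Quotient.mk 1) = v := one_smul R v
    exact (this.trans h1).symm)
  have : IsIso f := by
    refine (ConcreteCategory.isIso_iff_bijective f).mpr ⟨?_, htW _ f hMS hf0⟩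
    refine LinearMap.ker_eq_bot.mp (LinearMap.ker_eq_bot'.mpr fun m hm => ?_)
    induction m using LocalizedModule.induction_on with
    | _ a s =>
      obtain ⟨a, rfl⟩ := Submodule.Quotient.mk_surjective p a
      have h1 : g (Submodule.Quotient.mk a) = 0 := by
        have := congrArg (fun w : W => (s : R) • w) hm
        simp only [smul_zero] at this
        rw [← map_smul, LocalizedModule.smul'_mk, ← Submonoid.smul_def, LocalizedModule.mk_cancel] at this
        exact (hf _).symm.trans this
      have ha : a ∈ p := by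
        by_contra hna
        exact hv ((hSW a hna).1 (show a • v = a • (0 : W) by rw [smul_zero]; exact h1))
      rw [(Submodule.Quotient.mk_eq_zero p).mpr ha, LocalizedModule.zero_mk]
  exact ⟨asIso f⟩

end QCohEquivLib

end
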