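import Groth.Agent.QCohEquivLib.Obj
import Groth.Agent.QCohEquivLib.LocalMod
import Mathlib.AlgebraicGeometry.Morphisms.Affine

/-!
# Affineness from an equivalence with modules
-/

set_option autoImplicit false
universe u
open CategoryTheory CategoryTheory.Limits TopologicalSpace Opposite AlgebraicGeometry

noncomputable section

namespace QCohEquivLib

variable {X : Scheme.{u}} {R : Type u} [CommRing R] (e : QCohCat.QCoh X ≌ ModuleCat.{u} R)
  (p : Ideal R) [QuasiSeparatedSpace X]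

local notation "ι" => X.fromSpecResidueField

/-- A nonzero map to the residue field object is nonzero on every affine containing the point. -/
theorem exists_app_ne_zero {x : X} {N : QCohCat.QCoh X} (ψ : N ⟶ kObj x) (hψ : ψ ≠ 0)
    {W : X.Opens} (hW : IsAffineOpen W) (hx : x ∈ W) :
    ∃ n, ψ.hom.app W n ≠ 0 := by
  have : Coh.IsQCoh N.obj := N.property
  by_contra hn
  push_neg at hn
  apply hψ
  apply InducedCategory.hom_ext
  apply Scheme.Modules.hom_ext
  intro V
  refine ConcreteCategory.hom_ext _ _ fun n => ?_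
  change ψ.hom.app V n = 0
  by_cases hxV : x ∈ V
  swap
  · exact (subsingleton_sec hxV).elim _ _
  obtain ⟨W', hW', hxW', hle⟩ := Opens.isBasis_iff_nbhd.mp X.isBasis_affineOpens hxV
  apply (bijective_res hle hxW').1
  rw [← QCohLib.app_map, map_zero]
  generalize N.obj.presheaf.map (homOfLE hle).op n = n'
  obtain ⟨f, g, hfg, hxf⟩ := exists_basicOpen_le_affine_inter hW hW' x ⟨hx, hxW'⟩
  have hD : X.basicOpen f ≤ W' := hfg.le.trans (X.basicOpen_le g)
  apply (bijective_res hD hxf).1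
  rw [← QCohLib.app_map, map_zero]
  generalize N.obj.presheaf.map (homOfLE hD).op n' = m
  obtain ⟨k, t, ht⟩ := (QCohLib.localizingAt_of_isQCoh hW N.obj f).exists_extend m
  have h1 := congrArg (ψ.hom.app (X.basicOpen f)) ht
  rw [QCohLib.app_smul, QCohLib.app_map, hn t, map_zero] at h1
  have hu : IsUnit ((X.presheaf.map (homOfLE (X.basicOpen_le f)).op f) ^ k) :=
    (RingedSpace.isUnit_res_basicOpen X.toRingedSpace f).pow k
  exact hu.smul_eq_zero.mp h1.symm

theorem isTop_kObj [CompactSpace X] [p.IsPrime] {x : X} (hx : IsMaxT e p x) :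
    IsTop e p (kObj (X := X) x) := by
  intro N ψ hN hψ
  have : Epi ψ.hom := by
    refine QCohLib.epi_of_surjective_on_affines _ fun V v y hy => ?_
    obtain ⟨W, hW, hyW, hle⟩ := Opens.isBasis_iff_nbhd.mp X.isBasis_affineOpens hy
    refine ⟨W, hle, hyW, ?_⟩
    generalize (kObj x).obj.presheaf.map (homOfLE hle).op v = w
    by_cases hxW : x ∈ W
    swap
    · exact ⟨0, (subsingleton_sec hxW).elim _ _⟩
    let F := ((ι x).app W).hom
    letI := (isField_sec hxW).toField
    obtain ⟨n₀, hn₀⟩ := exists_app_ne_zero ψ hψ hW hxW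
    let u : Γ(Spec (X.residueField x), ι x ⁻¹ᵁ W) := ψ.hom.app W n₀
    let w' : Γ(Spec (X.residueField x), ι x ⁻¹ᵁ W) := w
    have hu : u ≠ 0 := hn₀
    obtain ⟨a₀, b₀, hb₀, h₀⟩ := exists_frac hW hxW u
    obtain ⟨a, b, hb, h⟩ := exists_frac hW hxW w'
    change u * F b₀ = F a₀ at h₀
    change w' * F b = F a at h
    change F b₀ ≠ 0 at hb₀
    change F b ≠ 0 at hb
    have hA : F (a₀ * b) ≠ 0 := by
      rw [map_mul, ← h₀]
      exact mul_ne_zero (mul_ne_zero hu hb₀) hb
    obtain ⟨r, hr, hrI⟩ := exists_mem_ideal e p hW (RingHom.ker F ⊔ Ideal.span {a₀ * b})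
      fun q hq hqT => by
        have hspec : x ⤳ hW.fromSpec q := by
          obtain ⟨qx, hqx⟩ := exists_fromSpec hW hxW
          rw [← hqx]
          refine specializes_fromSpec hW qx q fun c hc => hq (Ideal.mem_sup_left ?_)
          refine RingHom.mem_ker.mpr ((app_eq_zero_iff hxW c).mpr fun hxc => ?_)
          rw [← hqx] at hxc
          exact (fromSpec_mem_basicOpen hW qx c).mp hxc hc
        have hzx := hx.2 _ hqT hspec
        refine (fromSpec_mem_basicOpen hW q (a₀ * b)).mp ?_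
          (hq (Ideal.mem_sup_right (Ideal.mem_span_singleton_self _)))
        rw [hzx]
        by_contra hxb
        exact hA ((app_eq_zero_iff hxW _).mpr hxb)
    obtain ⟨k, hk, c', hc', hkc⟩ := Submodule.mem_sup.mp hrI
    obtain ⟨c, rfl⟩ := Ideal.mem_span_singleton'.mp hc'
    have hFr : F (phiW e r W) = F c * (F a₀ * F b) := by
      rw [← hkc, map_add, RingHom.mem_ker.mp hk, zero_add, map_mul, map_mul]
    have := hN r hr
    refine ⟨(inv (zz e r N)).hom.app W ((c * a * b₀) • n₀), ?_⟩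
    set n := (inv (zz e r N)).hom.app W ((c * a * b₀) • n₀) with hn
    have h1 : (zz e r N).hom.app W n = (c * a * b₀) • n₀ := by
      rw [hn]
      exact congr(($(IsIso.inv_hom_id (zz e r N)).hom).app W ((c * a * b₀) • n₀))
    have h2 : ψ.hom.app W ((zz e r N).hom.app W n) =
        (zz e r (kObj x)).hom.app W (ψ.hom.app W n) :=
      congr(($(zz_naturality e r ψ).hom).app W n)
    rw [h1, QCohLib.app_smul, zz_app] at h2
    let n' : Γ(Spec (X.residueField x), ι x ⁻¹ᵁ W) := ψ.hom.app W n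
    change F (c * a * b₀) * u = F (phiW e r W) * n' at h2
    change n' = w'
    have hne : F (phiW e r W) ≠ 0 := (isUnit_app hxW ((mem_basicOpen_phiW e hxW r).mpr
      (hx.1 r hr))).ne_zero
    refine (mul_left_cancel₀ hne ?_).symm
    rw [← h2, hFr, map_mul, map_mul, ← h, ← h₀]
    ring
  exact (ObjectProperty.ι (QCohCat.isQCoh X)).epi_of_epi_map this

theorem sBij_of_isS {M : QCohCat.QCoh X} (h : IsS e p M) : SBij p (e.functor.obj M) := fun r hr => by
  have := h r hr
  have : IsIso (r • 𝟙 (e.functor.obj M)) := map_zz e r M ▸ inferInstance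
  exact ConcreteCategory.bijective_of_isIso (r • 𝟙 (e.functor.obj M))

theorem topMod_of_isTop {M : QCohCat.QCoh X} (h : IsTop e p M) : TopMod p (e.functor.obj M) := by
  intro N g hN hg
  have := additive_functor e
  let ψ : e.inverse.obj N ⟶ M := e.fullyFaithfulFunctor.preimage (e.counitIso.hom.app N ≫ g)
  have hψ : e.functor.map ψ = e.counitIso.hom.app N ≫ g := e.fullyFaithfulFunctor.map_preimage _
  have hS : IsS e p (e.inverse.obj N) := fun r hr => by
    have : IsIso (r • 𝟙 (e.functor.obj (e.inverse.obj N))) := by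
      have : IsIso (r • 𝟙 N) := (ConcreteCategory.isIso_iff_bijective _).mpr (hN r hr)
      rw [show r • 𝟙 (e.functor.obj (e.inverse.obj N)) =
        e.counitIso.hom.app N ≫ (r • 𝟙 N) ≫ e.counitIso.inv.app N by simp]
      infer_instance
    have : IsIso (e.functor.map (zz e r (e.inverse.obj N))) := by rw [map_zz]; exact this
    exact isIso_of_fully_faithful e.functor _
  have hψ0 : ψ ≠ 0 := fun h0 => hg (by
    rw [h0, Functor.map_zero] at hψ
    rw [← cancel_epi (e.counitIso.hom.app N), ← hψ, comp_zero])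
  have := h _ ψ hS hψ0
  have : Epi (e.counitIso.hom.app N ≫ g) := hψ ▸ inferInstance
  exact (ModuleCat.epi_iff_surjective g).mp (epi_of_epi (e.counitIso.hom.app N) g)

theorem exists_ne_zero_map (x : X) : ∃ v : e.functor.obj (kObj (X := X) x), v ≠ 0 := by
  by_contra h
  push_neg at h
  have := additive_functor e
  have h0 : 𝟙 (kObj (X := X) x) = 0 := e.functor.map_injective (by
    ext v
    rw [h v, map_zero, map_zero])
  exact kObj_sec_one_ne_zero (x := x) (V := ⊤) trivial
    congr(($(h0).hom).app ⊤ (sec x (1 : Γ(Spec (X.residueField x), ι x ⁻¹ᵁ ⊤))))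

theorem isMaxT_unique [CompactSpace X] [p.IsPrime] {x x' : X} (hx : IsMaxT e p x)
    (hx' : IsMaxT e p x') : x = x' := by
  obtain ⟨i⟩ := nonempty_iso p (sBij_of_isS e p (isS_kObj e p hx.1))
    (topMod_of_isTop e p (isTop_kObj e p hx)) (sBij_of_isS e p (isS_kObj e p hx'.1))
    (topMod_of_isTop e p (isTop_kObj e p hx')) (exists_ne_zero_map e x) (exists_ne_zero_map e x')
  let j : kObj (X := X) x ≅ kObj x' := e.fullyFaithfulFunctor.preimageIso i
  by_contra hne
  have hns : ¬ x ⤳ x' := fun h => hne (hx.2 x' hx'.1 h).symm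
  obtain ⟨U, hU, hx'U, hxU⟩ := not_specializes_iff_exists_open.mp hns
  let V : X.Opens := ⟨U, hU⟩
  refine kObj_sec_one_ne_zero (x := x') (V := V) hx'U ?_
  rw [show sec x' 1 = j.hom.hom.app V (j.inv.hom.app V (sec x' 1)) from
    congr(($(j.inv_hom_id).hom).app V (sec x' (1 : Γ(Spec (X.residueField x'), ι x' ⁻¹ᵁ V)))).symm,
    (subsingleton_sec (x := x) (V := V) hxU).elim (j.inv.hom.app V (sec x' 1)) 0, map_zero]

theorem exists_isAffineOpen_basicOpen [CompactSpace X] [hp : p.IsPrime] :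
    ∃ r, r ∉ p ∧ IsAffineOpen (X.basicOpen (phi e r)) := by
  obtain ⟨U, hU, hTU⟩ : ∃ U : X.Opens, IsAffineOpen U ∧ T e p ⊆ U := by
    by_cases hT : (T e p).Nonempty
    · obtain ⟨y, hy⟩ := hT
      obtain ⟨x, hx, -⟩ := exists_isMaxT e p hy
      obtain ⟨U, hU, hxU, -⟩ := Opens.isBasis_iff_nbhd.mp X.isBasis_affineOpens (Opens.mem_top x)
      refine ⟨U, hU, fun z hz => ?_⟩
      obtain ⟨x', hx', hzx'⟩ := exists_isMaxT e p hz
      rw [← isMaxT_unique e p hx hx'] at hzx'
      exact hzx'.mem_open U.isOpen hxU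
    · exact ⟨⊥, isAffineOpen_bot X, fun z hz => (hT ⟨z, hz⟩).elim⟩
  obtain ⟨s, hs⟩ := isCompact_univ.elim_finite_subcover
    (fun W : X.affineOpens => ((W : X.Opens) : Set X)) (fun W => W.1.isOpen) fun z _ => by
      obtain ⟨V, hV, hz, -⟩ := Opens.isBasis_iff_nbhd.mp X.isBasis_affineOpens (Opens.mem_top z)
      exact Set.mem_iUnion.mpr ⟨⟨V, hV⟩, hz⟩
  have hloc : ∀ W : X.affineOpens, ∃ r, r ∉ p ∧ (W : X.Opens) ⊓ X.basicOpen (phi e r) ≤ U := by
    intro W
    obtain ⟨I, hI⟩ : ∃ I : Ideal Γ(X, W), ({q : PrimeSpectrum Γ(X, W) | W.2.fromSpec q ∈ U}ᶜ) =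
        PrimeSpectrum.zeroLocus (I : Set Γ(X, W)) :=
      (PrimeSpectrum.isClosed_iff_zeroLocus_ideal _).mp
        (W.2.fromSpec ⁻¹ᵁ U).isOpen.isClosed_compl
    obtain ⟨r, hr, hrI⟩ := exists_mem_ideal e p W.2 I fun q hq hqT => by
      have : q ∈ ({q : PrimeSpectrum Γ(X, W) | W.2.fromSpec q ∈ U}ᶜ) := hI ▸ hq
      exact this (hTU hqT)
    refine ⟨r, hr, fun z ⟨hzW, hz⟩ => ?_⟩
    obtain ⟨q, rfl⟩ := exists_fromSpec W.2 hzW
    by_contra hzU
    have : q ∈ PrimeSpectrum.zeroLocus (I : Set Γ(X, W)) := hI ▸ hzU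
    exact (fromSpec_mem_basicOpen W.2 q _).mp ((mem_basicOpen_phiW e hzW r).mpr hz) (this hrI)
  choose r hr hle using hloc
  refine ⟨∏ W ∈ s, r W, hp.prod_mem_iff.not.mpr fun ⟨W, _, hW⟩ => hr W hW, ?_⟩
  have hDU : X.basicOpen (phi e (∏ W ∈ s, r W)) ≤ U := fun z hz => by
    obtain ⟨W, hWs, hzW⟩ := Set.mem_iUnion₂.mp (hs (Set.mem_univ z))
    refine hle W ⟨hzW, ?_⟩
    obtain ⟨c, hc⟩ := Finset.dvd_prod_of_mem r hWs
    rw [hc, map_mul, Scheme.basicOpen_mul] at hz
    exact hz.1
  have := hU.basicOpen (X.presheaf.map (homOfLE (le_top : U ≤ ⊤)).op (phi e (∏ W ∈ s, r W)))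
  rwa [Scheme.basicOpen_res, inf_eq_right.mpr hDU] at this

include e in
theorem isAffine_of_equivalence [CompactSpace X] : IsAffine X := by
  refine isAffine_of_isAffineOpen_basicOpen (phi e '' {r | IsAffineOpen (X.basicOpen (phi e r))}) ?_
    (by rintro _ ⟨r, hr, rfl⟩; exact hr)
  rw [← Ideal.map_span]
  have : Ideal.span {r : R | IsAffineOpen (X.basicOpen (phi e r))} = ⊤ := by
    by_contra hne
    obtain ⟨m, hm, hle⟩ := Ideal.exists_le_maximal _ hne
    have := hm.isPrime
    obtain ⟨r, hr, hra⟩ := exists_isAffineOpen_basicOpen e m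
    exact hr (hle (Ideal.subset_span hra))
  rw [this, Ideal.map_top]

end QCohEquivLib

end
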