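import Groth.Agent.QCohEquivLib.Point
import Mathlib.AlgebraicGeometry.Morphisms.Preimmersion
import Mathlib.AlgebraicGeometry.Morphisms.QuasiSeparated
import Mathlib.AlgebraicGeometry.ResidueField

/-!
# The residue field objects
-/

set_option autoImplicit false
universe u
open CategoryTheory CategoryTheory.Limits TopologicalSpace Opposite AlgebraicGeometry

noncomputable section

namespace QCohEquivLib

variable {X : Scheme.{u}} {R : Type u} [CommRing R] (e : QCohCat.QCoh X ≌ ModuleCat.{u} R)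
  (p : Ideal R) [QuasiSeparatedSpace X]

local notation "ι" => X.fromSpecResidueField

/-- The residue field of `x`, as a quasi-coherent module on `X`. -/
def kObj (x : X) : QCohCat.QCoh X :=
  ⟨(Scheme.Modules.pushforward (ι x)).obj (Coh.structureModule _),
    have := QCohLib.isQCoh_unit (X := Spec (X.residueField x))
    QCohLib.isQCoh_pushforward _ _⟩

/-- Sections of the residue field object. -/
abbrev sec (x : X) {V : X.Opens} (a : Γ(Spec (X.residueField x), ι x ⁻¹ᵁ V)) :
    Γ((kObj x).obj, V) := a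

theorem preimage_eq_top {x : X} {V : X.Opens} (h : x ∈ V) : ι x ⁻¹ᵁ V = ⊤ := by
  refine eq_top_iff.mpr fun s _ => ?_
  change ι x s ∈ V
  rwa [Scheme.fromSpecResidueField_apply]

theorem preimage_eq_bot {x : X} {V : X.Opens} (h : x ∉ V) : ι x ⁻¹ᵁ V = ⊥ := by
  refine eq_bot_iff.mpr fun s (hs : ι x s ∈ V) => ?_
  rw [Scheme.fromSpecResidueField_apply] at hs
  exact (h hs).elim

theorem subsingleton_sec {x : X} {V : X.Opens} (h : x ∉ V) : Subsingleton Γ((kObj x).obj, V) := by
  change Subsingleton Γ(Spec (X.residueField x), ι x ⁻¹ᵁ V)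
  rw [preimage_eq_bot h]
  infer_instance

theorem isField_sec {x : X} {V : X.Opens} (h : x ∈ V) :
    IsField Γ(Spec (X.residueField x), ι x ⁻¹ᵁ V) := by
  rw [preimage_eq_top h]
  exact (Scheme.ΓSpecIso (X.residueField x)).commRingCatIsoToRingEquiv.toMulEquiv.isField
    (Field.toIsField (X.residueField x))

theorem bijective_res {x : X} {V V' : X.Opens} (hle : V' ≤ V) (h : x ∈ V') :
    Function.Bijective ((kObj x).obj.presheaf.map (homOfLE hle).op) := by
  change Function.Bijective ((Spec (X.residueField x)).presheaf.map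
    (homOfLE ((ι x).preimage_mono hle)).op)
  have : IsIso (homOfLE ((ι x).preimage_mono hle)) :=
    ⟨homOfLE (by rw [preimage_eq_top h]; exact le_top), rfl, rfl⟩
  exact ConcreteCategory.bijective_of_isIso _

theorem app_eq_zero_iff {x : X} {V : X.Opens} (h : x ∈ V) (a : Γ(X, V)) :
    (ι x).app V a = 0 ↔ x ∉ X.basicOpen a := by
  rw [← basicOpen_eq_bot_iff, ← Scheme.preimage_basicOpen]
  constructor
  · intro hb hx
    rw [preimage_eq_top hx] at hb
    exact absurd (congr((($hb : (Spec (X.residueField x)).Opens) : Set (Spec (X.residueField x)))))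
      (by simp [Set.univ_nonempty.ne_empty])
  · exact preimage_eq_bot

theorem isUnit_app {x : X} {V : X.Opens} (h : x ∈ V) {a : Γ(X, V)} (ha : x ∈ X.basicOpen a) :
    IsUnit ((ι x).app V a) := by
  letI := (isField_sec h).toField
  exact isUnit_iff_ne_zero.mpr fun h0 => (app_eq_zero_iff h a).mp h0 ha

theorem exists_frac {x : X} {W : X.Opens} (hW : IsAffineOpen W) (hx : x ∈ W)
    (v : Γ(Spec (X.residueField x), ι x ⁻¹ᵁ W)) :
    ∃ a b, (ι x).app W b ≠ 0 ∧ v * (ι x).app W b = (ι x).app W a := by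
  obtain ⟨s₀⟩ : Nonempty (Spec (X.residueField x)) := ⟨IsLocalRing.closedPoint _⟩
  have hs₀ : ι x s₀ ∈ W := by rwa [Scheme.fromSpecResidueField_apply]
  obtain ⟨w, hw⟩ := (ι x).stalkMap_surjective s₀
    ((Spec (X.residueField x)).presheaf.germ (ι x ⁻¹ᵁ W) s₀ hs₀ v)
  let := X.presheaf.algebra_section_stalk ⟨ι x s₀, hs₀⟩
  obtain ⟨⟨a, b⟩, hab⟩ := (hW.isLocalization_stalk ⟨ι x s₀, hs₀⟩).surj _ w
  have hg := congr((ι x).stalkMap s₀ $hab)
  change ((ι x).stalkMap s₀) (w * X.presheaf.germ W _ hs₀ b.1) =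
    ((ι x).stalkMap s₀) (X.presheaf.germ W _ hs₀ a) at hg
  rw [map_mul, hw] at hg
  erw [Scheme.Hom.germ_stalkMap_apply, Scheme.Hom.germ_stalkMap_apply] at hg
  refine ⟨a, b.1, fun h0 => (app_eq_zero_iff hx b.1).mp h0 ?_, ?_⟩
  · have hu : IsUnit (X.presheaf.germ W _ hs₀ b.1) :=
      @IsLocalization.map_units _ _ _ _ _ _ (hW.isLocalization_stalk ⟨ι x s₀, hs₀⟩) b
    have := (X.mem_basicOpen b.1 (ι x s₀) hs₀).mpr hu
    exact Eq.subst (motive := fun y => y ∈ X.basicOpen b.1)
      (Scheme.fromSpecResidueField_apply x s₀) this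
  · refine TopCat.Presheaf.section_ext (Spec (X.residueField x)).sheaf _ _ _ fun y hy => ?_
    cases Subsingleton.elim y s₀
    exact ((map_mul ((Spec (X.residueField x)).presheaf.germ (ι x ⁻¹ᵁ W) _ hy).hom v _).trans hg)

theorem zz_app (r : R) {x : X} {V : X.Opens} (v : Γ((kObj x).obj, V)) :
    (zz e r (kObj x)).hom.app V v = sec x ((ι x).app V (phiW e r V) *
      (show Γ(Spec (X.residueField x), ι x ⁻¹ᵁ V) from v)) := by
  by_cases h : x ∈ V
  · obtain ⟨t, rfl⟩ := (bijective_res le_top h).2 v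
    rw [QCohLib.app_map, zz_top, QCohLib.map_smul']
    exact QCohLib.push_smul _ _ _ _
  · exact (subsingleton_sec h).elim _ _

theorem isS_kObj {x : X} (hx : x ∈ T e p) : IsS e p (kObj (X := X) x) := by
  intro r hr
  have : IsIso (zz e r (kObj x)).hom := by
    refine Scheme.Modules.Hom.isIso_iff_isIso_app.mpr fun V => ?_
    refine (ConcreteCategory.isIso_iff_bijective _).mpr ?_
    by_cases h : x ∈ V
    · have hu := isUnit_app h ((mem_basicOpen_phiW e h r).mpr (hx r hr))
      refine ⟨fun v v' hvv => ?_, fun v => ⟨sec x (hu.unit⁻¹.1 *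
        (show Γ(Spec (X.residueField x), ι x ⁻¹ᵁ V) from v)), ?_⟩⟩
      · rw [zz_app, zz_app] at hvv
        exact hu.mul_left_cancel hvv
      · rw [zz_app]
        let v' : Γ(Spec (X.residueField x), ι x ⁻¹ᵁ V) := v
        show (ι x).app V (phiW e r V) * (hu.unit⁻¹.1 * v') = v'
        rw [← mul_assoc, hu.mul_val_inv, one_mul]
    · exact ⟨fun a b _ => (subsingleton_sec h).elim _ _,
        fun a => ⟨a, (subsingleton_sec h).elim _ _⟩⟩
  exact (ObjectProperty.isIso_hom_iff _).mp this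

theorem kObj_sec_one_ne_zero {x : X} {V : X.Opens} (h : x ∈ V) :
    sec x (1 : Γ(Spec (X.residueField x), ι x ⁻¹ᵁ V)) ≠ 0 := fun h0 => by
  letI := (isField_sec h).toField
  exact one_ne_zero (α := Γ(Spec (X.residueField x), ι x ⁻¹ᵁ V)) h0

end QCohEquivLib

end
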