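import Groth.Agent.QCohEquivLib.Basic

/-!
# Maximal points of `T` and their test objects
-/

set_option autoImplicit false
universe u
open CategoryTheory CategoryTheory.Limits TopologicalSpace Opposite AlgebraicGeometry

noncomputable section

namespace QCohEquivLib

variable {X : Scheme.{u}} {R : Type u} [CommRing R] (e : QCohCat.QCoh X ≌ ModuleCat.{u} R)
  (p : Ideal R)

theorem mem_basicOpen_phiW {W : X.Opens} {y : X} (hy : y ∈ W) (r : R) :
    y ∈ X.basicOpen (phiW e r W) ↔ y ∈ X.basicOpen (phi e r) := by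
  rw [show X.basicOpen (phiW e r W) = W ⊓ X.basicOpen (phi e r) from Scheme.basicOpen_res _ _ _]
  exact ⟨fun h => h.2, fun h => ⟨hy, h⟩⟩

theorem fromSpec_mem_basicOpen {W : X.Opens} (hW : IsAffineOpen W) (q : PrimeSpectrum Γ(X, W))
    (a : Γ(X, W)) : hW.fromSpec q ∈ X.basicOpen a ↔ a ∉ q.asIdeal := by
  change q ∈ hW.fromSpec ⁻¹ᵁ X.basicOpen a ↔ _
  rw [hW.fromSpec_preimage_basicOpen]
  rfl

theorem fromSpec_mem {W : X.Opens} (hW : IsAffineOpen W) (q : PrimeSpectrum Γ(X, W)) :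
    hW.fromSpec q ∈ W := by
  rw [← SetLike.mem_coe, ← hW.range_fromSpec]
  exact ⟨q, rfl⟩

theorem exists_fromSpec {W : X.Opens} (hW : IsAffineOpen W) {y : X} (hy : y ∈ W) :
    ∃ q, hW.fromSpec q = y :=
  ⟨hW.primeIdealOf ⟨y, hy⟩, hW.fromSpec_primeIdealOf ⟨y, hy⟩⟩

theorem specializes_fromSpec {W : X.Opens} (hW : IsAffineOpen W) (q q' : PrimeSpectrum Γ(X, W))
    (h : q.asIdeal ≤ q'.asIdeal) : hW.fromSpec q ⤳ hW.fromSpec q' :=
  ((PrimeSpectrum.le_iff_specializes q q').mp h).map hW.fromSpec.continuous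

theorem mem_T_fromSpec [p.IsPrime] {W : X.Opens} (hW : IsAffineOpen W)
    (q : PrimeSpectrum Γ(X, W)) (h : ∀ r, r ∉ p → phiW e r W ∉ q.asIdeal) :
    hW.fromSpec q ∈ T e p := fun r hr =>
  (mem_basicOpen_phiW e (fromSpec_mem hW q) r).mp ((fromSpec_mem_basicOpen hW q _).mpr (h r hr))

/-- An ideal without zeros in `T` meets the complement of `p`. -/
theorem exists_mem_ideal [hp : p.IsPrime] {W : X.Opens} (hW : IsAffineOpen W) (I : Ideal Γ(X, W))
    (h : ∀ q : PrimeSpectrum Γ(X, W), I ≤ q.asIdeal → hW.fromSpec q ∉ T e p) :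
    ∃ r, r ∉ p ∧ phiW e r W ∈ I := by
  by_contra hn
  push_neg at hn
  let f : R →+* Γ(X, W) := (X.presheaf.map (homOfLE (le_top : W ≤ ⊤)).op).hom.comp (phi e)
  obtain ⟨q, hq, hIq, hqS⟩ := Ideal.exists_le_prime_disjoint I (p.primeCompl.map f)
    (Set.disjoint_left.mpr fun x hxI ⟨r, hr, hrx⟩ => hn r hr (show f r ∈ I from hrx.symm ▸ hxI))
  refine h ⟨q, hq⟩ hIq (mem_T_fromSpec e p hW _ fun r hr hmem => ?_)
  exact Set.disjoint_left.mp hqS hmem ⟨r, hr, rfl⟩

variable [CompactSpace X]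

/-- Every point of `T` specializes to a maximal one. -/
theorem exists_isMaxT [hp : p.IsPrime] {y : X} (hy : y ∈ T e p) :
    ∃ x, IsMaxT e p x ∧ y ⤳ x := by
  obtain ⟨s, hs⟩ := isCompact_univ.elim_finite_subcover
    (fun W : X.affineOpens => ((W : X.Opens) : Set X)) (fun W => W.1.isOpen) fun z _ => by
      obtain ⟨V, hV, hz, -⟩ := Opens.isBasis_iff_nbhd.mp X.isBasis_affineOpens (Opens.mem_top z)
      exact Set.mem_iUnion.mpr ⟨⟨V, hV⟩, hz⟩
  have hcov : ∀ z : X, ∃ W ∈ s, z ∈ (W : X.Opens) := fun z => by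
    simpa using hs (Set.mem_univ z)
  classical
  let N : X → Finset X.affineOpens := fun z =>
    s.filter fun W => ∃ z' ∈ T e p, z ⤳ z' ∧ z' ∈ (W : X.Opens)
  induction hn : (N y).card using Nat.strong_induction_on generalizing y with
  | _ n IH =>
    obtain ⟨W, hWs, hyW⟩ := hcov y
    obtain ⟨qy, rfl⟩ := exists_fromSpec W.2 hyW
    let f : R →+* Γ(X, W) := (X.presheaf.map (homOfLE (le_top : W.1 ≤ ⊤)).op).hom.comp (phi e)
    have hdis : Disjoint (qy.asIdeal : Set Γ(X, W)) (p.primeCompl.map f : Set Γ(X, W)) :=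
      Set.disjoint_left.mpr fun a ha ⟨r, hr, hra⟩ =>
        (fromSpec_mem_basicOpen W.2 qy _).mp
          ((mem_basicOpen_phiW e hyW r).mpr (hy r hr)) (show f r ∈ qy.asIdeal from hra.symm ▸ ha)
    obtain ⟨q, hle, hqmax⟩ := zorn_le_nonempty₀
      {J : Ideal Γ(X, W) | Disjoint (J : Set Γ(X, W)) (p.primeCompl.map f : Set Γ(X, W))}
      (fun c hc hch J hJ => ⟨sSup c, (by
        change Disjoint ((sSup c : Ideal Γ(X, W)) : Set Γ(X, W)) _
        refine Set.disjoint_left.mpr fun a ha => ?_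
        obtain ⟨K, hK, haK⟩ := (Submodule.mem_sSup_of_directed ⟨J, hJ⟩ hch.directedOn).mp ha
        exact Set.disjoint_left.mp (hc hK) haK), fun K hK => le_sSup hK⟩) qy.asIdeal hdis
    have hqp : q.IsPrime := Ideal.isPrime_of_maximally_disjoint q (p.primeCompl.map f) hqmax.prop
      fun J hJ hd => hJ.not_ge (hqmax.le_of_ge hd hJ.le)
    let z := W.2.fromSpec ⟨q, hqp⟩
    have hyz : W.2.fromSpec qy ⤳ z := specializes_fromSpec W.2 qy ⟨q, hqp⟩ hle
    have hzT : z ∈ T e p := mem_T_fromSpec e p W.2 _ fun r hr hm =>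
      Set.disjoint_left.mp hqmax.prop hm ⟨r, hr, rfl⟩
    by_cases hmax : IsMaxT e p z
    · exact ⟨z, hmax, hyz⟩
    obtain ⟨z', hz'T, hzz', hne⟩ : ∃ z' ∈ T e p, z ⤳ z' ∧ z' ≠ z := by
      by_contra hh
      push_neg at hh
      exact hmax ⟨hzT, hh⟩
    have hsub : N z' ⊆ N (W.2.fromSpec qy) := fun V hV => by
      simp only [N, Finset.mem_filter] at hV ⊢
      obtain ⟨hVs, w, hw, hz'w, hwV⟩ := hV
      exact ⟨hVs, w, hw, (hyz.trans hzz').trans hz'w, hwV⟩
    have hWy : W ∈ N (W.2.fromSpec qy) :=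
      Finset.mem_filter.mpr ⟨hWs, _, hy, specializes_rfl, hyW⟩
    have hWz : W ∉ N z' := fun hW => by
      obtain ⟨-, w, hwT, hz'w, hwW⟩ := Finset.mem_filter.mp hW
      have hz'W : z' ∈ (W : X.Opens) := hz'w.mem_open W.1.isOpen hwW
      obtain ⟨q', hq'⟩ := exists_fromSpec W.2 hz'W
      have hle' : q ≤ q'.asIdeal := by
        intro a ha
        by_contra hna
        have := hzz'.mem_open (X.basicOpen a).isOpen (hq' ▸ (fromSpec_mem_basicOpen W.2 q' a).mpr hna)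
        exact (fromSpec_mem_basicOpen W.2 ⟨q, hqp⟩ a).mp this ha
      have heq : q'.asIdeal ≤ q := hqmax.le_of_ge (Set.disjoint_left.mpr fun a ha ⟨r, hr, hra⟩ =>
        (fromSpec_mem_basicOpen W.2 q' _).mp
          ((mem_basicOpen_phiW e (hq' ▸ hz'W) r).mpr (hq' ▸ hz'T r hr)) (show f r ∈ q'.asIdeal from hra.symm ▸ ha)) hle'
      apply hne
      rw [← hq', show q' = ⟨q, hqp⟩ from PrimeSpectrum.ext (le_antisymm heq hle')]
    have hlt : (N z').card < n :=
      hn ▸ Finset.card_lt_card ((Finset.ssubset_iff_of_subset hsub).mpr ⟨W, hWy, hWz⟩)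
    obtain ⟨x, hx, hz'x⟩ := IH _ hlt hz'T rfl
    exact ⟨x, hx, (hyz.trans hzz').trans hz'x⟩

end QCohEquivLib

end
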